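import Groth.Prelude.Def_LocCohZ
import Groth.Agent.S0925
import Mathlib.CategoryTheory.Preadditive.Injective.Preserves

/-!
# `Γ_Z` preserves injective abelian sheaves
-/

set_option autoImplicit false
universe u

open CategoryTheory CategoryTheory.Limits Opposite TopologicalSpace
open Groth.Agent.CohtopB.TopPull

namespace Groth.Agent.LocCohZ.K287.Inj

variable {X : TopCat.{u}} (U : Opens X)

/-- `Γ_Z(I)` is injective for `I` injective. -/
theorem injective_sectSupp (I : CohTop.Ab X) [Injective I] : Injective (CohCx.sectSupp U I) := by
  have h1 := Groth.Agent.S0925.isIso_unit U I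
  have h2 : Injective (CohCx.HZ U I) := Groth.Agent.S0925.result U I
  exact Injective.of_iso (asIso ((adj (CohCx.inclCompl U)).unit.app (CohCx.sectSupp U I))).symm
    (injective_push (CohCx.inclCompl U) (CohCx.HZ U I))

theorem injective_sectSuppF (I : CohTop.Ab X) [Injective I] : Injective ((LocCohZ.sectSuppF U).obj I) :=
  injective_sectSupp U I

instance : (LocCohZ.sectSuppF U).PreservesInjectiveObjects where
  injective_obj hI := @injective_sectSuppF _ U _ hI

end Groth.Agent.LocCohZ.K287.Inj
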