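import Mathlib.Algebra.Homology.DerivedCategory.Ext.ExactSequences

/-!
# Consequences of the contravariant long exact sequence of `Ext`

For a short exact sequence `0 ⟶ X₁ ⟶ X₂ ⟶ X₃ ⟶ 0` in an abelian category and an object `Y`:
vanishing of `Ext^i(X₃, Y)` for `i ≤ N` against bijectivity of `Ext^i(X₂, Y) → Ext^i(X₁, Y)`, and
surjectivity / bijectivity of the connecting map when `Ext^i(X₂, Y)` vanishes.
-/

set_option autoImplicit false
universe w

open CategoryTheory CategoryTheory.Limits Abelian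

namespace Groth.Agent.LocCohZ.K287.AbsLES

variable {C : Type*} [Category* C] [Abelian C] [HasExt.{w} C] {S : ShortComplex C} (hS : S.ShortExact) (Y : C)

/-- `Ext^i(X₂, Y) → Ext^i(X₁, Y)`. -/
noncomputable abbrev rs (S : ShortComplex C) (Y : C) (i : ℕ) : Ext.{w} S.X₂ Y i →+ Ext.{w} S.X₁ Y i :=
  (Ext.mk₀ S.f).precomp Y (zero_add i)

/-- `Ext^i(X₃, Y) → Ext^i(X₂, Y)`. -/
noncomputable abbrev th (S : ShortComplex C) (Y : C) (i : ℕ) : Ext.{w} S.X₃ Y i →+ Ext.{w} S.X₂ Y i :=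
  (Ext.mk₀ S.g).precomp Y (zero_add i)

/-- `Ext^i(X₁, Y) → Ext^{i+1}(X₃, Y)`. -/
noncomputable abbrev dl (i : ℕ) : Ext.{w} S.X₁ Y i →+ Ext.{w} S.X₃ Y (i + 1) :=
  hS.extClass.precomp Y (Nat.add_comm 1 i)

theorem rs_th (i : ℕ) (x : Ext.{w} S.X₃ Y i) : rs S Y i (th S Y i x) = 0 := by
  change (Ext.mk₀ S.f).comp ((Ext.mk₀ S.g).comp x (zero_add i)) (zero_add i) = 0
  rw [Ext.mk₀_comp_mk₀_assoc, S.zero, Ext.mk₀_zero, Ext.zero_comp]

theorem dl_rs (i : ℕ) (x : Ext.{w} S.X₂ Y i) : dl hS Y i (rs S Y i x) = 0 :=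
  hS.extClass_comp_assoc x (h := Nat.add_comm 1 i)

theorem th_dl (i : ℕ) (x : Ext.{w} S.X₁ Y i) : th S Y (i + 1) (dl hS Y i x) = 0 :=
  hS.comp_extClass_assoc x (Nat.add_comm 1 i)

theorem th_zero_injective (hS : S.ShortExact) : Function.Injective (th S Y 0) := by
  have := hS.epi_g
  exact Ext.precomp_mk₀_injective_of_epi Y S.g

/-- `Ext^{i+1}(X₃, Y) = 0` iff surjective in degree `i` and injective in degree `i + 1`. -/
theorem subsingleton_succ_iff (hS : S.ShortExact) (i : ℕ) : Subsingleton (Ext.{w} S.X₃ Y (i + 1)) ↔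
    Function.Surjective (rs S Y i) ∧ Function.Injective (rs S Y (i + 1)) := by
  constructor
  · intro hs
    refine ⟨fun x => Ext.contravariant_sequence_exact₁ hS Y x (Nat.add_comm 1 i)
      (Subsingleton.elim _ _), ?_⟩
    rw [injective_iff_map_eq_zero]
    intro x hx
    obtain ⟨y, rfl⟩ := Ext.contravariant_sequence_exact₂ hS Y x hx
    rw [Subsingleton.elim y 0, Ext.comp_zero]
  · rintro ⟨h1, h2⟩
    refine subsingleton_of_forall_eq 0 fun x => ?_
    have hx : th S Y (i + 1) x = 0 := h2 (by rw [rs_th, map_zero])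
    obtain ⟨y, rfl⟩ := Ext.contravariant_sequence_exact₃ hS Y x hx (Nat.add_comm 1 i)
    obtain ⟨z, rfl⟩ := h1 y
    exact dl_rs hS Y i z

/-- `Hom(X₃, Y) = 0` iff `Hom(X₂, Y) → Hom(X₁, Y)` is injective. -/
theorem subsingleton_zero_iff (hS : S.ShortExact) : Subsingleton (Ext.{w} S.X₃ Y 0) ↔
    Function.Injective (rs S Y 0) := by
  constructor
  · intro hs
    rw [injective_iff_map_eq_zero]
    intro x hx
    obtain ⟨y, rfl⟩ := Ext.contravariant_sequence_exact₂ hS Y x hx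
    rw [Subsingleton.elim y 0, Ext.comp_zero]
  · intro h2
    refine subsingleton_of_forall_eq 0 fun x => ?_
    have hx : th S Y 0 x = 0 := h2 (by rw [rs_th, map_zero])
    exact th_zero_injective Y hS (by rw [hx, map_zero])

/-- `Ext^i(X₃, Y) = 0` for all `i ≤ N` iff restriction is bijective in degrees `< N` and injective in
degree `N`. -/
theorem forall_subsingleton_iff (hS : S.ShortExact) (N : ℕ) :
    (∀ i : ℕ, i ≤ N → Subsingleton (Ext.{w} S.X₃ Y i)) ↔
    (∀ i : ℕ, i < N → Function.Bijective (rs S Y i)) ∧ Function.Injective (rs S Y N) := by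
  induction N with
  | zero =>
    constructor
    · intro hs
      exact ⟨fun i hi => absurd hi (Nat.not_lt_zero i), (subsingleton_zero_iff Y hS).1 (hs 0 le_rfl)⟩
    · rintro ⟨_, h2⟩ i hi
      obtain rfl : i = 0 := Nat.le_zero.1 hi
      exact (subsingleton_zero_iff Y hS).2 h2
  | succ N ih =>
    constructor
    · intro hs
      obtain ⟨h1, h2⟩ := ih.1 fun i hi => hs i (by omega)
      obtain ⟨h3, h4⟩ := (subsingleton_succ_iff Y hS N).1 (hs (N + 1) le_rfl)
      refine ⟨fun i hi => ?_, h4⟩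
      rcases Nat.lt_succ_iff_lt_or_eq.1 hi with hi | rfl
      · exact h1 i hi
      · exact ⟨h2, h3⟩
    · rintro ⟨h1, h2⟩ i hi
      rcases Nat.lt_or_eq_of_le hi with hi | rfl
      · exact ih.2 ⟨fun i hi => h1 i (by omega), (h1 N (by omega)).1⟩ i (by omega)
      · exact (subsingleton_succ_iff Y hS N).2 ⟨(h1 N (by omega)).2, h2⟩

/-- The connecting map is surjective if `Ext^{i+1}(X₂, Y) = 0`. -/
theorem surjective_dl (i : ℕ) (h : Subsingleton (Ext.{w} S.X₂ Y (i + 1))) :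
    Function.Surjective (dl hS Y i) := fun x =>
  Ext.contravariant_sequence_exact₃ hS Y x (Subsingleton.elim _ _) (Nat.add_comm 1 i)

/-- The connecting map is injective if `Ext^i(X₂, Y) = 0`. -/
theorem injective_dl (i : ℕ) (h : Subsingleton (Ext.{w} S.X₂ Y i)) :
    Function.Injective (dl hS Y i) := by
  rw [injective_iff_map_eq_zero]
  intro x hx
  obtain ⟨y, rfl⟩ := Ext.contravariant_sequence_exact₁ hS Y x (Nat.add_comm 1 i) hx
  rw [Subsingleton.elim y 0, Ext.comp_zero]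

/-- The connecting map in degree zero has kernel the image of restriction. -/
theorem dl_eq_zero_iff (i : ℕ) (x : Ext.{w} S.X₁ Y i) : dl hS Y i x = 0 ↔ ∃ y, rs S Y i y = x :=
  ⟨fun hx => Ext.contravariant_sequence_exact₁ hS Y x (Nat.add_comm 1 i) hx,
    fun ⟨y, hy⟩ => hy ▸ dl_rs hS Y i y⟩

theorem subsingleton_right (hS : S.ShortExact) (i : ℕ) (h1 : Function.Surjective (rs S Y i))
    (h2 : Subsingleton (Ext.{w} S.X₂ Y (i + 1))) : Subsingleton (Ext.{w} S.X₃ Y (i + 1)) :=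
  (subsingleton_succ_iff Y hS i).2 ⟨h1, fun _ _ _ => Subsingleton.elim _ _⟩

theorem surjective_rs_zero_iff (S : ShortComplex C) (Y : C) : Function.Surjective (rs.{w} S Y 0) ↔
    ∀ f : S.X₁ ⟶ Y, ∃ g : S.X₂ ⟶ Y, S.f ≫ g = f := by
  constructor
  · intro h f
    obtain ⟨y, hy⟩ := h (Ext.mk₀ f)
    obtain ⟨g, rfl⟩ := (Ext.mk₀_bijective _ _).2 y
    refine ⟨g, (Ext.mk₀_bijective _ _).1 ?_⟩
    rw [← hy, ← Ext.mk₀_comp_mk₀]
    rfl
  · intro h x
    obtain ⟨f, rfl⟩ := (Ext.mk₀_bijective _ _).2 x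
    obtain ⟨g, rfl⟩ := h f
    exact ⟨Ext.mk₀ g, Ext.mk₀_comp_mk₀ _ _⟩

end Groth.Agent.LocCohZ.K287.AbsLES
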