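import Groth.Prelude.Def_LocCohZ
import Groth.Agent.LocCohZ.K287.AbsLES

/-!
# The long exact sequence of cohomology with supports

For opens `W ≤ V` of a space and an abelian sheaf `F`:
`forall_HZ_iff` : `HZ F i h = 0` for `i ≤ N` iff `CohTop.res F i h` is bijective for `i < N` and injective
for `i = N`; `HZ_succ_iff`; `surjective_map`; `HZ_zero_iff`; `subsingleton_HZ_succ`.
-/

set_option autoImplicit false
universe u

open CategoryTheory CategoryTheory.Limits Opposite TopologicalSpace Abelian

namespace Groth.Agent.LocCohZ.K287.LES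

variable {X : TopCat.{u}} (F : CohTop.Ab X) {W V : Opens X} (h : W ≤ V)

theorem forall_HZ_iff (N : ℕ) : (∀ i : ℕ, i ≤ N → Subsingleton (LocCohZ.HZ F i h)) ↔
    (∀ i : ℕ, i < N → Function.Bijective (CohTop.res F i h)) ∧ Function.Injective (CohTop.res F N h) :=
  AbsLES.forall_subsingleton_iff.{u} (C := CohTop.Ab X) F (LocCohZ.zqSeq_shortExact h) N

theorem HZ_succ_iff (i : ℕ) : Subsingleton (LocCohZ.HZ F (i + 1) h) ↔
    Function.Surjective (CohTop.res F i h) ∧ Function.Injective (CohTop.res F (i + 1) h) :=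
  AbsLES.subsingleton_succ_iff.{u} (C := CohTop.Ab X) F (LocCohZ.zqSeq_shortExact h) i

/-- If restriction `H^0(V, F) → H^0(W, F)` is surjective then so is `F(V) → F(W)`. -/
theorem surjective_map (hs : Function.Surjective (CohTop.res F 0 h)) :
    Function.Surjective (F.obj.map (homOfLE h).op) := by
  have hs' : ∀ f : CohCx.freeSheaf (Opens.grothendieckTopology X) W ⟶ F,
      ∃ g : CohCx.freeSheaf (Opens.grothendieckTopology X) V ⟶ F,
        CohCx.freeSheafMap (Opens.grothendieckTopology X) (homOfLE h) ≫ g = f :=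
    (AbsLES.surjective_rs_zero_iff.{u} (C := CohTop.Ab X) (LocCohZ.zqSeq h) F).1 hs
  intro s
  obtain ⟨g, hg⟩ := hs' (CohFree.ofSect (Opens.grothendieckTopology X) W F s)
  refine ⟨CohFree.evalGen (Opens.grothendieckTopology X) V F g, ?_⟩
  have h1 := CohFree.evalGen_freeSheafMap_comp (Opens.grothendieckTopology X) (homOfLE h) F g
  rw [hg, CohFree.evalGen_ofSect] at h1
  exact h1.symm

/-- If `F(V) → F(W)` is surjective then so is `H^0(V, F) → H^0(W, F)`. -/
theorem surjective_res (hs : Function.Surjective (F.obj.map (homOfLE h).op)) :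
    Function.Surjective (CohTop.res F 0 h) := by
  refine (AbsLES.surjective_rs_zero_iff.{u} (C := CohTop.Ab X) (LocCohZ.zqSeq h) F).2 fun f => ?_
  obtain ⟨s, hs⟩ := hs (CohFree.evalGen (Opens.grothendieckTopology X) W F f)
  refine ⟨CohFree.ofSect (Opens.grothendieckTopology X) V F s, ?_⟩
  have h1 := CohFree.evalGen_freeSheafMap_comp (Opens.grothendieckTopology X) (homOfLE h) F
    (CohFree.ofSect (Opens.grothendieckTopology X) V F s)
  rw [CohFree.evalGen_ofSect] at h1
  apply (CohFree.homEquivSect (Opens.grothendieckTopology X) W F).injective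
  exact h1.trans hs

end Groth.Agent.LocCohZ.K287.LES
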