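import Mathlib.CategoryTheory.Abelian.RightDerived
import Mathlib.CategoryTheory.Abelian.Injective.Basic
import Mathlib.Algebra.Homology.ShortComplex.ExactFunctor
import Mathlib.CategoryTheory.Abelian.Refinements

/-!
# Complexes of injectives exact in low degrees are split in low degrees

* `exactAt_map` : a complex `0 ⟶ K⁰ ⟶ K¹ ⟶ …` with `Kⁱ` injective and `K` exact in degrees `< n`
  stays exact in degrees `< n` after any additive functor.
* `isZero_rightDerived_comp` : if `G` preserves injectives and `RⁱG(X) = 0` for `i < n`, then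
  `Rⁱ(G ⋙ H)(X) = 0` for `i < n` and any additive `H`.
-/

set_option autoImplicit false

open CategoryTheory CategoryTheory.Limits

namespace Groth.Agent.LocCohZ.K287.SplitInj

section

variable {B : Type*} [Category* B] [Abelian B] {D : Type*} [Category* D] [Abelian D]

/-- A short complex with a contraction at the middle term is exact. -/
theorem exact_of_split (S : ShortComplex D) (s : S.X₂ ⟶ S.X₁) (t : S.X₃ ⟶ S.X₂)
    (h : s ≫ S.f + S.g ≫ t = 𝟙 _) : S.Exact := by
  rw [ShortComplex.exact_iff_exact_up_to_refinements]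
  intro A x hx
  refine ⟨A, 𝟙 _, inferInstance, x ≫ s, ?_⟩
  have h1 := congrArg (fun z => x ≫ z) h
  simp only [Preadditive.comp_add, reassoc_of% hx, zero_comp, add_zero, Category.comp_id] at h1
  rw [Category.id_comp, Category.assoc, h1]

/-- Extension along the exact sequence `X₁ ⟶ X₂ ⟶ X₃` into an injective object. -/
theorem exists_desc (S : ShortComplex B) (hS : S.Exact) {J : B} [Injective J] (φ : S.X₂ ⟶ J)
    (hφ : S.f ≫ φ = 0) : ∃ t : S.X₃ ⟶ J, S.g ≫ t = φ :=
  ⟨hS.descToInjective φ hφ, hS.comp_descToInjective φ hφ⟩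

variable (K : CochainComplex B ℕ)

theorem exact_of_exactAt_succ (i : ℕ) (h : K.ExactAt (i + 1)) :
    (ShortComplex.mk (K.d i (i + 1)) (K.d (i + 1) (i + 2)) (K.d_comp_d _ _ _)).Exact :=
  (K.exactAt_iff' i (i + 1) (i + 2) (by simp) (by simp)).1 h

theorem mono_of_exactAt_zero (h : K.ExactAt 0) : Mono (K.d 0 1) := by
  have h1 := (K.exactAt_iff' 0 0 1 (by simp) (by simp)).1 h
  exact (ShortComplex.exact_iff_mono _ (K.shape _ _ (by simp))).1 h1

/-- The partial contracting homotopy. -/
theorem exists_contraction (n : ℕ) (hI : ∀ i : ℕ, i < n → Injective (K.X i))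
    (hK : ∀ i : ℕ, i < n → K.ExactAt i) (i : ℕ) (hi : i < n) :
    ∃ t : K.X (i + 1) ⟶ K.X i, K.d i (i + 1) ≫ t ≫ K.d i (i + 1) = K.d i (i + 1) ∧
      (i = 0 → K.d i (i + 1) ≫ t = 𝟙 _) ∧
      ∀ (j : ℕ) (_ : j + 1 = i), ∃ s : K.X i ⟶ K.X j, s ≫ K.d j i + K.d i (i + 1) ≫ t = 𝟙 _ := by
  induction i with
  | zero =>
    have := hI 0 hi
    have := mono_of_exactAt_zero K (hK 0 hi)
    refine ⟨Injective.factorThru (𝟙 _) (K.d 0 1), ?_, fun _ => Injective.comp_factorThru _ _, ?_⟩
    · have := Injective.comp_factorThru (𝟙 _) (K.d 0 1)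
      rw [reassoc_of% this]
    · intro j hj
      omega
  | succ i ih =>
    obtain ⟨s, hs, -, -⟩ := ih (by omega)
    have := hI (i + 1) hi
    obtain ⟨t, ht⟩ := exists_desc _ (exact_of_exactAt_succ K i (hK (i + 1) hi))
      (𝟙 _ - s ≫ K.d i (i + 1)) (by
        change K.d i (i + 1) ≫ _ = 0
        rw [Preadditive.comp_sub, hs, Category.comp_id, sub_self])
    change K.d (i + 1) (i + 2) ≫ t = _ at ht
    refine ⟨t, ?_, fun h => absurd h (Nat.succ_ne_zero i), ?_⟩
    · rw [reassoc_of% ht, Preadditive.sub_comp, Category.id_comp, Category.assoc, K.d_comp_d,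
        comp_zero, sub_zero]
    · intro j hj
      obtain rfl : j = i := by omega
      refine ⟨s, ?_⟩
      rw [ht, add_sub_cancel]

theorem zero_add_aux {X Y : D} (f : X ⟶ Y) {g h : Y ⟶ Y} (e : g = h) :
    (0 : Y ⟶ X) ≫ f + g = h := by rw [zero_comp, zero_add, e]

/-- A complex of injectives exact in low degrees stays so after any additive functor. -/
theorem exactAt_map (H : B ⥤ D) [H.Additive] (n : ℕ) (hI : ∀ i : ℕ, i < n → Injective (K.X i))
    (hK : ∀ i : ℕ, i < n → K.ExactAt i) (i : ℕ) (hi : i < n) :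
    ((H.mapHomologicalComplex _).obj K).ExactAt i := by
  obtain ⟨t, ht, h0, h1⟩ := exists_contraction K n hI hK i hi
  match i, hi, t, ht, h0, h1 with
  | 0, hi, t, ht, h0, h1 =>
    rw [HomologicalComplex.exactAt_iff' _ 0 0 1 (by simp) (by simp)]
    refine exact_of_split _ 0 (H.map t) (zero_add_aux _ ?_)
    change H.map (K.d 0 1) ≫ H.map t = 𝟙 (H.obj (K.X 0))
    rw [← H.map_comp, h0 rfl, H.map_id]
  | i + 1, hi, t, ht, h0, h1 =>
    obtain ⟨s, hs⟩ := h1 i rfl
    rw [HomologicalComplex.exactAt_iff' _ i (i + 1) (i + 2) (by simp) (by simp)]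
    refine exact_of_split _ (H.map s) (H.map t) ?_
    change H.map s ≫ H.map (K.d i (i + 1)) + H.map (K.d (i + 1) (i + 2)) ≫ H.map t = 𝟙 _
    rw [← H.map_comp, ← H.map_comp, ← H.map_add, hs, H.map_id]

end

section

variable {A : Type*} [Category* A] [Abelian A] [HasInjectiveResolutions A]
  {B : Type*} [Category* B] [Abelian B] {D : Type*} [Category* D] [Abelian D]

/-- If `G` preserves injectives and `RⁱG(X) = 0` for `i < n`, then `Rⁱ(G ⋙ H)(X) = 0` for `i < n`. -/
theorem isZero_rightDerived_comp (G : A ⥤ B) [G.Additive] (H : B ⥤ D) [H.Additive]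
    (hG : ∀ I : A, Injective I → Injective (G.obj I)) (X : A) (n : ℕ)
    (h : ∀ i : ℕ, i < n → IsZero ((G.rightDerived i).obj X)) (i : ℕ) (hi : i < n) :
    IsZero (((G ⋙ H).rightDerived i).obj X) := by
  obtain ⟨R⟩ : Nonempty (InjectiveResolution X) := ⟨injectiveResolution X⟩
  have h1 : ∀ i : ℕ, i < n → ((G.mapHomologicalComplex _).obj R.cocomplex).ExactAt i := fun i hi => by
    rw [HomologicalComplex.exactAt_iff_isZero_homology]
    exact (h i hi).of_iso (R.isoRightDerivedObj G i).symm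
  have h2 := exactAt_map ((G.mapHomologicalComplex _).obj R.cocomplex) H n
    (fun i _ => hG _ inferInstance) h1 i hi
  rw [HomologicalComplex.exactAt_iff_isZero_homology] at h2
  exact h2.of_iso (R.isoRightDerivedObj (G ⋙ H) i)

end

end Groth.Agent.LocCohZ.K287.SplitInj
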