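import Groth.Agent.LocCohZ.K287.Sheafify
import Groth.Agent.LocCohZ.K287.Inj
import Groth.Agent.LocCohZ.K287.SplitInj
import Groth.Agent.LocCohZ.K287.LES
import Groth.Agent.CohtopA.Flasque

/-!
# Vanishing of local cohomology sheaves and of cohomology with supports

* `HZshComp U q : (sectSuppF U ⋙ sheafToPresheaf).rightDerived q ≅ extPre (zqF U) q`.
* `forall_isZero_HZsh_iff` : `ℋ^i_Z(F) = 0` for `i < n` iff `H^i_{V∖U}(V, F) = 0` for all opens `V` and `i < n`.
* `subsingleton_HZ_of_isFlasque`.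
-/

set_option autoImplicit false
universe u

open CategoryTheory CategoryTheory.Limits Opposite TopologicalSpace
open Groth.Agent.CohtopB.ExtRD Groth.Agent.CohtopA.RDComp

namespace Groth.Agent.LocCohZ.K287.Vanish

open Sect Sheafify

variable {X : TopCat.{u}} (U : Opens X)

/-- The derived functors of `F ↦ (V ↦ Γ_Z(F)(V))` are `F ↦ (V ↦ Ext^q(ℤ_V/ℤ_{V ⊓ U}, F))`. -/
noncomputable def HZshComp (q : ℕ) :
    (LocCohZ.sectSuppF U ⋙ sheafToPresheaf (Opens.grothendieckTopology X) AddCommGrpCat.{u}).rightDerived q ≅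
      extPre (zqF U) q :=
  rightDerivedCongr (homPreIso U).symm q ≪≫ extPreIso (zqF U) q

theorem subsingleton_HZ_of_isZero_HZsh (F : CohTop.Ab X) (n : ℕ)
    (h : ∀ i : ℕ, i < n → IsZero ((LocCohZ.HZsh U i).obj F)) (V : Opens X) (i : ℕ) (hi : i < n) :
    Subsingleton (LocCohZ.HZ F i (inf_le_left : V ⊓ U ≤ V)) := by
  have h1 := SplitInj.isZero_rightDerived_comp (LocCohZ.sectSuppF U)
    (sheafToPresheaf (Opens.grothendieckTopology X) AddCommGrpCat.{u})
    (fun I hI => @Inj.injective_sectSuppF _ U I hI) F n h i hi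
  have h2 : IsZero ((extPre (zqF U) i).obj F) := h1.of_iso ((HZshComp U i).app F).symm
  have h3 := (Functor.isZero_iff _).1 h2 (op V)
  exact AddCommGrpCat.subsingleton_of_isZero h3

theorem forall_isZero_HZsh_iff (F : CohTop.Ab X) (n : ℕ) :
    (∀ i : ℕ, i < n → IsZero ((LocCohZ.HZsh U i).obj F)) ↔
      ∀ (V : Opens X) (i : ℕ), i < n → Subsingleton (LocCohZ.HZ F i (inf_le_left : V ⊓ U ≤ V)) :=
  ⟨fun h V i hi => subsingleton_HZ_of_isZero_HZsh U F n h V i hi,
    fun h i hi => isZero_HZsh U F i fun V => h V i hi⟩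

end Groth.Agent.LocCohZ.K287.Vanish
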