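import Groth.Agent.LocCohZ.K287.Vanish
import Groth.Agent.CohtopA.NoethVanish

/-!
# Local vanishing of classes with supports

* `isZero_sheafify_of_forall` : the sheafification of a locally zero presheaf is zero.
* `isZero_HZsh_of_forall` : `ℋ^q_Z(F) = 0` if every class of every `H^q_{V∖U}(V, F)` dies locally.
* `isZero_HZsh_succ` : `ℋ^{n+1}_Z(F) = 0` if `H^n(V, F) → H^n(V ∩ U, F)` is onto for all `V`.
* `subsingleton_HZ_of_isFlasque`, `isZero_HZsh_of_isFlasque`.
-/

set_option autoImplicit false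
universe u

open CategoryTheory CategoryTheory.Limits Opposite TopologicalSpace Abelian
open Groth.Agent.CohtopB.ExtRD Groth.Agent.CohtopA.RDComp

namespace Groth.Agent.LocCohZ.K287.LocVan

open Sect Sheafify

variable {X : TopCat.{u}}

/-- A presheaf all of whose sections die locally has zero sheafification. -/
theorem isZero_sheafify_of_forall (P : (Opens X)ᵒᵖ ⥤ AddCommGrpCat.{u})
    (h : ∀ (V : Opens X) (s : P.obj (op V)) (x : X), x ∈ V →
      ∃ (W : Opens X) (hW : W ≤ V), x ∈ W ∧ P.map (homOfLE hW).op s = 0) :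
    IsZero ((shf X).obj P) := by
  rw [IsZero.iff_id_eq_zero]
  have adj := sheafificationAdjunction (Opens.grothendieckTopology X) AddCommGrpCat.{u}
  apply (adj.homEquiv _ _).injective
  ext V s
  have key : ∀ (F : CohTop.Ab X) (φ : P ⟶ F.obj) (V : Opens X) (s : P.obj (op V)),
      φ.app (op V) s = 0 := by
    intro F φ V s
    refine TopCat.Presheaf.section_ext F V _ _ fun y hy => ?_
    obtain ⟨W, hWV, hyW, hW⟩ := h V s y hy
    rw [map_zero]
    have h1 : TopCat.Presheaf.germ F.obj W y hyW (F.obj.map (homOfLE hWV).op (φ.app (op V) s)) = 0 := by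
      have h2 := ConcreteCategory.congr_hom (φ.naturality (homOfLE hWV).op) s
      have h4 : F.obj.map (homOfLE hWV).op (φ.app (op V) s) = 0 := by
        refine h2.symm.trans ?_
        change φ.app (op W) (P.map (homOfLE hWV).op s) = 0
        rw [hW, map_zero]
      rw [h4, map_zero]
    exact (TopCat.Presheaf.germ_res_apply F.obj (homOfLE hWV) y hyW _).symm.trans h1
  exact (key _ _ _ _).trans (key _ _ _ _).symm

variable (U : Opens X) (F : CohTop.Ab X)

/-- Restriction `H^q_{V∖U}(V, F) → H^q_{W∖U}(W, F)`. -/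
noncomputable def resZ (q : ℕ) {V W : Opens X} (h : W ≤ V) :
    Ext.{u} ((zqF U).obj V) F q →+ Ext.{u} ((zqF U).obj W) F q :=
  (Ext.mk₀ ((zqF U).map (homOfLE h))).precomp F (zero_add q)

/-- `ℋ^q_Z(F) = 0` if every class of every `H^q_{V∖U}(V, F)` dies locally. -/
theorem isZero_HZsh_of_forall (q : ℕ)
    (h : ∀ (V : Opens X) (s : Ext.{u} ((zqF U).obj V) F q) (x : X), x ∈ V →
      ∃ (W : Opens X) (hW : W ≤ V), x ∈ W ∧ resZ U F q hW s = 0) :
    IsZero ((LocCohZ.HZsh U q).obj F) :=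
  IsZero.of_iso (isZero_sheafify_of_forall ((extPre (zqF U) q).obj F) h) ((HZshIso U q).app F)

/-- `H^q_{V∖U}(V, F) → H^q(V, F)` -/
noncomputable def toHU (q : ℕ) (V : Opens X) :
    Ext.{u} ((zqF U).obj V) F q →+ CohTop.HU F q V :=
  (Ext.mk₀ (πz U V)).precomp F (zero_add q)

theorem toHU_resZ (q : ℕ) {V W : Opens X} (h : W ≤ V) (s : Ext.{u} ((zqF U).obj V) F q) :
    toHU U F q W (resZ U F q h s) = CohTop.res F q h (toHU U F q V s) := by
  change (Ext.mk₀ (πz U W)).comp ((Ext.mk₀ ((zqF U).map (homOfLE h))).comp s (zero_add q)) (zero_add q) =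
    (Ext.mk₀ (CohCx.freeSheafMap (Opens.grothendieckTopology X) (homOfLE h))).comp
      ((Ext.mk₀ (πz U V)).comp s (zero_add q)) (zero_add q)
  rw [Ext.mk₀_comp_mk₀_assoc, Ext.mk₀_comp_mk₀_assoc, πz_map]

theorem eq_zero_of_toHU (n : ℕ) (V : Opens X)
    (h : Function.Surjective (CohTop.res F n (inf_le_left : V ⊓ U ≤ V)))
    (s : Ext.{u} ((zqF U).obj V) F (n + 1)) (hs : toHU U F (n + 1) V s = 0) : s = 0 := by
  obtain ⟨y, rfl⟩ := Ext.contravariant_sequence_exact₃
    (LocCohZ.zqSeq_shortExact (inf_le_left : V ⊓ U ≤ V)) F s hs (Nat.add_comm 1 n)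
  obtain ⟨z, rfl⟩ := h y
  exact AbsLES.dl_rs.{u} (C := CohTop.Ab X) (LocCohZ.zqSeq_shortExact (inf_le_left : V ⊓ U ≤ V)) F n z

/-- `ℋ^{n+1}_Z(F) = 0` if `H^n(V, F) → H^n(V ∩ U, F)` is onto for all `V`. -/
theorem isZero_HZsh_succ (n : ℕ)
    (h : ∀ V : Opens X, Function.Surjective (CohTop.res F n (inf_le_left : V ⊓ U ≤ V))) :
    IsZero ((LocCohZ.HZsh U (n + 1)).obj F) := by
  refine isZero_HZsh_of_forall U F (n + 1) fun V s x hx => ?_
  obtain ⟨W, hW, hxW, h0⟩ := CohtopA.NoethVanish.exists_open_res_eq_zero F n V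
    (toHU U F (n + 1) V s) x hx
  refine ⟨W, hW, hxW, eq_zero_of_toHU U F n W (h W) _ ?_⟩
  rw [toHU_resZ, h0]

/-- Flasque sheaves have no higher cohomology with supports. -/
theorem subsingleton_HZ_of_isFlasque [TopCat.Sheaf.IsFlasque F] {W V : Opens X} (h : W ≤ V) (i : ℕ) :
    Subsingleton (LocCohZ.HZ F (i + 1) h) := by
  refine (LES.HZ_succ_iff F h i).2 ⟨?_, ?_⟩
  · cases i with
    | zero =>
      exact LES.surjective_res F h ((AddCommGrpCat.epi_iff_surjective _).1
        (TopCat.Presheaf.IsFlasque.epi (F := F.obj) (homOfLE h).op))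
    | succ i =>
      have h1 := CohtopA.Flasque.subsingleton_HU_succ F W i
      exact fun x => ⟨0, @Subsingleton.elim _ h1 _ _⟩
  · have h1 := CohtopA.Flasque.subsingleton_HU_succ F V i
    exact fun x y _ => @Subsingleton.elim _ h1 _ _

theorem isZero_HZsh_of_isFlasque [TopCat.Sheaf.IsFlasque F] (i : ℕ) :
    IsZero ((LocCohZ.HZsh U (i + 1)).obj F) :=
  isZero_HZsh U F (i + 1) fun V => subsingleton_HZ_of_isFlasque F (inf_le_left : V ⊓ U ≤ V) i

end Groth.Agent.LocCohZ.K287.LocVan
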