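import Groth.Prelude.Def_LocCohZ
import Groth.Agent.CohtopA.RestrCoh

/-!
# Excision: cohomology with supports on an open subspace

* `evz h F : (zq h ⟶ F) → F(V)`, injective with image the sections vanishing on `W`.
* `exEquiv h F i : HZ F i h ≃+ HZc (restr F V) i (V ∩ W)`, natural in `F` (`exEquiv_naturality`).
-/

set_option autoImplicit false
universe u

open CategoryTheory CategoryTheory.Limits Opposite TopologicalSpace Abelian
open Groth.Agent.CohtopA.ExtAdj

namespace Groth.Agent.LocCohZ.K287.Excis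

section evz

variable {X : TopCat.{u}} {W V : Opens X} (h : W ≤ V)

/-- Evaluation of a morphism `ℤ_V/ℤ_W ⟶ F` at the canonical section. -/
noncomputable def evz (F : CohTop.Ab X) (f : LocCohZ.zq h ⟶ F) : F.obj.obj (op V) :=
  CohFree.evalGen (Opens.grothendieckTopology X) V F
    (cokernel.π (CohCx.freeSheafMap (Opens.grothendieckTopology X) (homOfLE h)) ≫ f)

theorem evz_comp {F G : CohTop.Ab X} (f : LocCohZ.zq h ⟶ F) (g : F ⟶ G) :
    evz h G (f ≫ g) = g.hom.app (op V) (evz h F f) := rfl

theorem evz_injective (F : CohTop.Ab X) : Function.Injective (evz h F) := by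
  intro f g e
  apply (cancel_epi (cokernel.π (CohCx.freeSheafMap (Opens.grothendieckTopology X) (homOfLE h)))).1
  exact (CohFree.homEquivSect (Opens.grothendieckTopology X) V F).injective e

theorem map_evz (F : CohTop.Ab X) (f : LocCohZ.zq h ⟶ F) :
    F.obj.map (homOfLE h).op (evz h F f) = 0 := by
  refine (CohFree.evalGen_freeSheafMap_comp (Opens.grothendieckTopology X) (homOfLE h) F _).symm.trans ?_
  rw [← Category.assoc, cokernel.condition, zero_comp, map_zero]

theorem exists_evz (F : CohTop.Ab X) (s : F.obj.obj (op V)) (hs : F.obj.map (homOfLE h).op s = 0) :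
    ∃ f, evz h F f = s := by
  have h1 : CohCx.freeSheafMap (Opens.grothendieckTopology X) (homOfLE h) ≫
      CohFree.ofSect (Opens.grothendieckTopology X) V F s = 0 := by
    apply (CohFree.homEquivSect (Opens.grothendieckTopology X) W F).injective
    rw [map_zero, CohFree.homEquivSect_apply, CohFree.evalGen_freeSheafMap_comp, CohFree.evalGen_ofSect]
    exact hs
  refine ⟨cokernel.desc _ _ h1, ?_⟩
  unfold evz
  rw [cokernel.π_desc, CohFree.evalGen_ofSect]

end evz

variable {X : TopCat.{u}} {W V : Opens X} (h : W ≤ V)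

/-- The trace of `W` on the subspace `V`. -/
abbrev tr (W V : Opens X) : Opens (TopCat.of V) := (Opens.map (CohCx.incl V)).obj W

theorem functor_tr_le (W V : Opens X) : V.isOpenEmbedding.functor.obj (tr W V) ≤ W := by
  rintro _ ⟨x, hx, rfl⟩
  exact hx

theorem le_functor_tr {W V : Opens X} (h : W ≤ V) : W ≤ V.isOpenEmbedding.functor.obj (tr W V) :=
  fun x hx => ⟨⟨x, h hx⟩, hx, rfl⟩

theorem obj_top (V : Opens X) : V.isOpenEmbedding.functor.obj (⊤ : Opens (TopCat.of V)) = V :=
  Opens.isOpenEmbedding_obj_top V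

theorem restr_map (F : CohTop.Ab X) (s : F.obj.obj (op V)) :
    (CohTop.restr F V).obj.map (homOfLE (le_top : tr W V ≤ ⊤)).op
      (F.obj.map (homOfLE (obj_top V).le).op s) =
    F.obj.map (homOfLE (functor_tr_le W V)).op (F.obj.map (homOfLE h).op s) := by
  have e1 := F.obj.map_comp (homOfLE h).op (homOfLE (functor_tr_le W V)).op
  have e2 := F.obj.map_comp (homOfLE (obj_top V).le).op
    (V.isOpenEmbedding.functor.map (homOfLE (le_top : tr W V ≤ ⊤))).op
  exact (ConcreteCategory.congr_hom e2 s).symm.trans (ConcreteCategory.congr_hom e1 s)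

/-- Sections of `F|_V` over `V` vanishing on `W`. -/
theorem exists_section (F : CohTop.Ab X) (t : (CohTop.restr F V).obj.obj (op ⊤))
    (ht : (CohTop.restr F V).obj.map (homOfLE (le_top : tr W V ≤ ⊤)).op t = 0) :
    ∃ s : F.obj.obj (op V), F.obj.map (homOfLE h).op s = 0 ∧ F.obj.map (homOfLE (obj_top V).le).op s = t := by
  refine ⟨F.obj.map (homOfLE (obj_top V).ge).op t, ?_, ?_⟩
  · have e1 := F.obj.map_comp (homOfLE (obj_top V).ge).op (homOfLE h).op
    have e2 := F.obj.map_comp (V.isOpenEmbedding.functor.map (homOfLE (le_top : tr W V ≤ ⊤))).op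
      (homOfLE (le_functor_tr h)).op
    refine (ConcreteCategory.congr_hom e1 t).symm.trans ((ConcreteCategory.congr_hom e2 t).trans ?_)
    have ht' : (F.obj.map (V.isOpenEmbedding.functor.map (homOfLE (le_top : tr W V ≤ ⊤))).op) t = 0 := ht
    refine (congrArg (F.obj.map (homOfLE (le_functor_tr h)).op) ht').trans ?_
    exact map_zero _
  · have e1 := F.obj.map_comp (homOfLE (obj_top V).ge).op (homOfLE (obj_top V).le).op
    refine (ConcreteCategory.congr_hom e1 t).symm.trans ?_
    exact ConcreteCategory.congr_hom (F.obj.map_id _) t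

/-- The map `ℤ_V/ℤ_W ⟶ (ℤ_V/ℤ_W)|_V` of sheaves on `V`. -/
theorem exists_c : ∃ c : LocCohZ.zq (le_top : tr W V ≤ ⊤) ⟶ CohTop.restr (LocCohZ.zq h) V,
    evz (le_top : tr W V ≤ ⊤) _ c =
      (LocCohZ.zq h).obj.map (homOfLE (obj_top V).le).op (evz h _ (𝟙 _)) :=
  exists_evz _ _ _ ((restr_map h _ _).trans ((congrArg _ (map_evz h _ _)).trans (map_zero _)))

theorem evz_c_comp (c : LocCohZ.zq (le_top : tr W V ≤ ⊤) ⟶ CohTop.restr (LocCohZ.zq h) V)
    (hc : evz (le_top : tr W V ≤ ⊤) _ c =
      (LocCohZ.zq h).obj.map (homOfLE (obj_top V).le).op (evz h _ (𝟙 _)))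
    (F : CohTop.Ab X) (f : LocCohZ.zq h ⟶ F) :
    evz (le_top : tr W V ≤ ⊤) (CohTop.restr F V) (c ≫ (CohTop.restrFunctor V).map f) =
      F.obj.map (homOfLE (obj_top V).le).op (evz h F f) := by
  refine (evz_comp _ _ _).trans ?_
  have h1 : evz h F f = f.hom.app (op V) (evz h _ (𝟙 _)) := by
    have := evz_comp h (𝟙 _) f
    rw [Category.id_comp] at this
    exact this
  rw [hc, h1]
  exact ConcreteCategory.congr_hom (f.hom.naturality (homOfLE (obj_top V).le).op) _

theorem c_bijective (c : LocCohZ.zq (le_top : tr W V ≤ ⊤) ⟶ CohTop.restr (LocCohZ.zq h) V)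
    (hc : evz (le_top : tr W V ≤ ⊤) _ c =
      (LocCohZ.zq h).obj.map (homOfLE (obj_top V).le).op (evz h _ (𝟙 _)))
    (F : CohTop.Ab X) :
    Function.Bijective (fun f : LocCohZ.zq h ⟶ F => c ≫ (CohTop.restrFunctor V).map f) := by
  constructor
  · intro f g e
    apply evz_injective
    have h1 : F.obj.map (homOfLE (obj_top V).le).op (evz h F f) =
        F.obj.map (homOfLE (obj_top V).le).op (evz h F g) :=
      (evz_c_comp h c hc F f).symm.trans ((congrArg (evz _ _) e).trans (evz_c_comp h c hc F g))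
    have h2 : ∀ s : F.obj.obj (op V), F.obj.map (homOfLE (obj_top V).ge).op
        (F.obj.map (homOfLE (obj_top V).le).op s) = s := fun s => by
      have e1 := F.obj.map_comp (homOfLE (obj_top V).le).op (homOfLE (obj_top V).ge).op
      exact (ConcreteCategory.congr_hom e1 s).symm.trans (ConcreteCategory.congr_hom (F.obj.map_id _) s)
    rw [← h2 (evz h F f), h1, h2]
  · intro g
    obtain ⟨s, hs, hst⟩ := exists_section h F (evz _ _ g) (map_evz _ _ g)
    obtain ⟨f, rfl⟩ := exists_evz h F s hs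
    refine ⟨f, evz_injective _ _ ?_⟩
    exact (evz_c_comp h c hc F f).trans hst

/-- The chosen comparison map. -/
noncomputable def cc : LocCohZ.zq (le_top : tr W V ≤ ⊤) ⟶ (CohTop.restrFunctor V).obj (LocCohZ.zq h) :=
  (exists_c h).choose

/-- `H^i_{V∖W}(V, F) ≃+ H^i_{V∖W}(V, F|_V)`. -/
noncomputable def exEquiv (F : CohTop.Ab X) (i : ℕ) :
    LocCohZ.HZ F i h ≃+ LocCohZ.HZc (CohTop.restr F V) i (tr W V) :=
  extOfHomEquiv (CohTop.restrFunctor V) (cc h) (c_bijective h (cc h) (exists_c h).choose_spec)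
    (fun I _ n => by
      have := CohtopA.RestrCoh.injective_restr V I
      exact Ext.subsingleton_of_injective _ _ _) F i

theorem exEquiv_naturality {F G : CohTop.Ab X} (φ : F ⟶ G) (i : ℕ) (x : LocCohZ.HZ F i h) :
    exEquiv h G i (LocCohZ.map φ i h x) =
      LocCohZ.map ((CohTop.restrFunctor V).map φ) i (le_top : tr W V ≤ ⊤) (exEquiv h F i x) := by
  have h1 := extOfHom_comp (CohTop.restrFunctor V) (cc h) x (Ext.mk₀ φ) (add_zero i)
  rw [Ext.mapExactFunctor_mk₀] at h1
  exact h1

end Groth.Agent.LocCohZ.K287.Excis
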