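import Groth.Agent.Sga4h.FunLES
import Mathlib.Algebra.Homology.HomologySequenceLemmas
import Mathlib.CategoryTheory.Abelian.FunctorCategory

/-!
# Naturality of the long exact sequence of right derived functors of `P ⟶ Q ⟶ R`

`P ⟶ Q ⟶ R` natural transformations of additive functors, short exact on injective objects.
* `δNat n : R.rightDerived n ⟶ P.rightDerived (n + 1)`, `δ₀Nat : R ⟶ P.rightDerived 1`.
* `succIso` : `R.rightDerived (n + 1) ≅ P.rightDerived (n + 2)` for `Q` exact.
* `oneIso` : `P.rightDerived 1 ≅ cokernel β` (in the functor category) for `Q` exact and `R` left exact.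
-/

set_option autoImplicit false

open CategoryTheory CategoryTheory.Limits

namespace Groth.Agent.LocCohZ.K287.FunNat

universe v₁ v₂ u₁ u₂

open Groth.Agent.Sga4h.RightDer Groth.Agent.Sga4h.FunLES

variable {A : Type u₁} {B : Type u₂} [Category.{v₁} A] [Category.{v₂} B] [Abelian A] [Abelian B]

section map

variable {P Q R : A ⥤ B} [P.Additive] [Q.Additive] [R.Additive] (α : P ⟶ Q) (β : Q ⟶ R)
  (w : ∀ M, α.app M ≫ β.app M = 0)

/-- The morphism of sequences of complexes induced by a morphism of complexes. -/
noncomputable def seqMap {K L : CochainComplex A ℕ} (g : K ⟶ L) : seq α β w K ⟶ seq α β w L where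
  τ₁ := (P.mapHomologicalComplex (ComplexShape.up ℕ)).map g
  τ₂ := (Q.mapHomologicalComplex (ComplexShape.up ℕ)).map g
  τ₃ := (R.mapHomologicalComplex (ComplexShape.up ℕ)).map g
  comm₁₂ := ((NatTrans.mapHomologicalComplex α (ComplexShape.up ℕ)).naturality g)
  comm₂₃ := ((NatTrans.mapHomologicalComplex β (ComplexShape.up ℕ)).naturality g)

end map

variable [HasInjectiveResolutions A]

section

variable {P Q R : A ⥤ B} [P.Additive] [Q.Additive] [R.Additive] (α : P ⟶ Q) (β : Q ⟶ R)
  (w : ∀ M, α.app M ≫ β.app M = 0)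
  (h : ∀ I : A, Injective I → (ShortComplex.mk (α.app I) (β.app I) (w I)).ShortExact)

theorem δ_naturality {M N : A} (f : M ⟶ N) (n : ℕ) :
    (R.rightDerived n).map f ≫ δ α β w h N n = δ α β w h M n ≫ (P.rightDerived (n + 1)).map f := by
  let g := InjectiveResolution.desc f (injectiveResolution N) (injectiveResolution M)
  have hg0 : (injectiveResolution M).ι.f 0 ≫ g.f 0 = f ≫ (injectiveResolution N).ι.f 0 :=
    InjectiveResolution.desc_commutes_zero _ _ _
  have e1 := InjectiveResolution.isoRightDerivedObj_hom_naturality f (injectiveResolution M)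
    (injectiveResolution N) g hg0 R n
  have e2 := InjectiveResolution.isoRightDerivedObj_inv_naturality f (injectiveResolution M)
    (injectiveResolution N) g hg0 P (n + 1)
  have e3 := HomologicalComplex.HomologySequence.δ_naturality (seqMap α β w g)
    (seqSE α β w h M) (seqSE α β w h N) n (n + 1) rfl
  have e3' : conn α β w h M n ≫ HomologicalComplex.homologyMap
        ((P.mapHomologicalComplex (ComplexShape.up ℕ)).map g) (n + 1) =
      HomologicalComplex.homologyMap ((R.mapHomologicalComplex (ComplexShape.up ℕ)).map g) n ≫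
        conn α β w h N n := e3
  unfold δ
  refine (Category.assoc _ _ _).symm.trans ?_
  refine (congrArg (· ≫ _) e1).trans ?_
  refine (Category.assoc _ _ _).trans ?_
  refine Eq.trans ?_ (Category.assoc _ _ _).symm
  refine congrArg (_ ≫ ·) ?_
  refine Eq.trans ?_ (Category.assoc _ _ _).symm
  refine Eq.trans ?_ (congrArg (_ ≫ ·) e2).symm
  refine (Category.assoc _ _ _).symm.trans ?_
  refine (congrArg (· ≫ _) e3'.symm).trans ?_
  exact Category.assoc _ _ _

/-- The connecting morphism as a natural transformation. -/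
noncomputable def δNat (n : ℕ) : R.rightDerived n ⟶ P.rightDerived (n + 1) where
  app M := δ α β w h M n
  naturality _ _ f := δ_naturality α β w h f n

theorem isIso_δNat (n : ℕ) (h0 : ∀ M, IsZero ((Q.rightDerived n).obj M))
    (h1 : ∀ M, IsZero ((Q.rightDerived (n + 1)).obj M)) : IsIso (δNat α β w h n) := by
  rw [NatTrans.isIso_iff_isIso_app]
  exact fun M => isIso_δ α β w h M n (h0 M) (h1 M)

/-- `R^{n+1} R ≅ R^{n+2} P` for `Q` exact. -/
noncomputable def succIso [PreservesFiniteLimits Q] [PreservesFiniteColimits Q] (n : ℕ) :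
    R.rightDerived (n + 1) ≅ P.rightDerived (n + 2) :=
  haveI := isIso_δNat α β w h (n + 1) (fun M => isZero_rightDerived_of_exact Q M n)
    (fun M => isZero_rightDerived_of_exact Q M (n + 1))
  asIso (δNat α β w h (n + 1))

/-- The connecting morphism in degree zero. -/
noncomputable def δ₀Nat : R ⟶ P.rightDerived 1 := R.toRightDerivedZero ≫ δNat α β w h 0

theorem comp_δ₀Nat : β ≫ δ₀Nat α β w h = 0 := by
  ext M
  exact comp_δ₀ α β w h M

/-- `R^1 P` is the cokernel of `Q ⟶ R`. -/
noncomputable def toOne : cokernel β ⟶ P.rightDerived 1 :=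
  cokernel.desc β (δ₀Nat α β w h) (comp_δ₀Nat α β w h)

theorem isIso_toOne [PreservesFiniteLimits Q] [PreservesFiniteColimits Q] [PreservesFiniteLimits R] :
    IsIso (toOne α β w h) := by
  rw [NatTrans.isIso_iff_isIso_app]
  intro M
  have e0' : (cokernel.π β).app M ≫ (PreservesCokernel.iso ((evaluation A B).obj M) β).hom =
      cokernel.π (β.app M) := PreservesCokernel.π_iso_hom ((evaluation A B).obj M) β
  have e0 : cokernel.π (β.app M) ≫ (PreservesCokernel.iso ((evaluation A B).obj M) β).inv =
      (cokernel.π β).app M := by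
    rw [← e0', Category.assoc, Iso.hom_inv_id]
    exact Category.comp_id _
  have e1 : (cokernel.π β).app M ≫ (toOne α β w h).app M = δ₀ α β w h M :=
    congrArg (fun t => t.app M) (cokernel.π_desc β (δ₀Nat α β w h) (comp_δ₀Nat α β w h))
  have e2 : (PreservesCokernel.iso ((evaluation A B).obj M) β).inv ≫ (toOne α β w h).app M =
      cokernel.desc (β.app M) (δ₀ α β w h M) (comp_δ₀ α β w h M) := by
    apply (cancel_epi (cokernel.π (β.app M))).1
    rw [cokernel.π_desc, ← e1, ← e0, Category.assoc]
  have hm : Mono (cokernel.desc (β.app M) (δ₀ α β w h M) (comp_δ₀ α β w h M)) :=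
    (exact₀ α β w h M).mono_cokernelDesc
  have he : Epi (cokernel.desc (β.app M) (δ₀ α β w h M) (comp_δ₀ α β w h M)) := by
    have he0 : Epi (δ₀ α β w h M) := epi_δ₀ α β w h M (isZero_rightDerived_of_exact Q M 0)
    have h3 : cokernel.π (β.app M) ≫ cokernel.desc (β.app M) (δ₀ α β w h M) (comp_δ₀ α β w h M) =
      δ₀ α β w h M := cokernel.π_desc _ _ _
    exact epi_of_epi_fac h3
  have hi : IsIso (cokernel.desc (β.app M) (δ₀ α β w h M) (comp_δ₀ α β w h M)) :=
    isIso_of_mono_of_epi _
  rw [← e2] at hi
  exact IsIso.of_isIso_comp_left (PreservesCokernel.iso ((evaluation A B).obj M) β).inv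
    ((toOne α β w h).app M)

/-- `R^1 P ≅ coker (Q ⟶ R)`, for `Q` exact and `R` left exact. -/
noncomputable def oneIso [PreservesFiniteLimits Q] [PreservesFiniteColimits Q] [PreservesFiniteLimits R] :
    P.rightDerived 1 ≅ cokernel β :=
  haveI := isIso_toOne α β w h
  (asIso (toOne α β w h)).symm

end

end Groth.Agent.LocCohZ.K287.FunNat
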