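import Groth.Prelude.Def_CohCx
import Groth.Agent.CohtopA.RestrCoh
import Groth.Agent.CohtopA.Flasque
import Groth.Agent.CohtopB.TopPull

/-!
# Inverse image along an open immersion is restriction

* `restrAdj U : restrFunctor U ⊣ push (incl U)`, `pullIso U : pull (incl U) ≅ restrFunctor U`.
* `injective_pull`, `epi_unit_of_isFlasque`.
-/

set_option autoImplicit false
universe u

open CategoryTheory CategoryTheory.Limits Opposite TopologicalSpace
open Groth.Agent.CohtopB.TopPull

namespace Groth.Agent.LocCohZ.K287.Restr

variable {X : TopCat.{u}} (U : Opens X)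

theorem cont {X Y : TopCat.{u}} (f : X ⟶ Y) :
    (Opens.map f).IsContinuous (Opens.grothendieckTopology Y) (Opens.grothendieckTopology X) := inferInstance

/-- Restriction to `U` is left adjoint to the direct image. -/
noncomputable def restrAdj : CohTop.restrFunctor U ⊣ CohTop.push (CohCx.incl U) :=
  have H : Topology.IsOpenEmbedding (TopCat.Hom.hom (CohCx.incl U)) := U.isOpenEmbedding
  haveI : H.isOpenMap.functor.IsContinuous (Opens.grothendieckTopology (TopCat.of U))
    (Opens.grothendieckTopology X) := H.functor_isContinuous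
  haveI := cont (CohCx.incl U)
  Adjunction.sheafPushforwardContinuous (E := AddCommGrpCat.{u}) H.isOpenMap.adjunction
    (Opens.grothendieckTopology (TopCat.of U)) (Opens.grothendieckTopology X)

/-- The inverse image along the inclusion of an open is the restriction. -/
noncomputable def pullIso : CohTop.pull (CohCx.incl U) ≅ CohTop.restrFunctor U :=
  (adj (CohCx.incl U)).leftAdjointUniq (restrAdj U)

theorem unit_pullIso (F : CohTop.Ab X) :
    (adj (CohCx.incl U)).unit.app F ≫ (CohTop.push (CohCx.incl U)).map ((pullIso U).hom.app F) =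
      (restrAdj U).unit.app F :=
  Adjunction.unit_leftAdjointUniq_hom_app _ _ _

theorem image_preimage_le (V : Opens X) :
    U.isOpenEmbedding.functor.obj ((Opens.map (CohCx.incl U)).obj V) ≤ V := by
  rintro _ ⟨x, hx, rfl⟩
  exact hx

theorem restrAdj_unit_app (F : CohTop.Ab X) (V : Opens X) :
    ((restrAdj U).unit.app F).hom.app (op V) = F.obj.map (homOfLE (image_preimage_le U V)).op := rfl

theorem injective_pull (I : CohTop.Ab X) [Injective I] : Injective ((CohTop.pull (CohCx.incl U)).obj I) :=
  Injective.of_iso ((pullIso U).app I).symm (CohtopA.RestrCoh.injective_restr U I)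

theorem epi_restrAdj_unit (F : CohTop.Ab X) [TopCat.Sheaf.IsFlasque F] : Epi ((restrAdj U).unit.app F) := by
  have h : Epi ((sheafToPresheaf (Opens.grothendieckTopology X) AddCommGrpCat.{u}).map
      ((restrAdj U).unit.app F)) := by
    rw [NatTrans.epi_iff_epi_app]
    intro V
    exact TopCat.Presheaf.IsFlasque.epi (F := F.obj) (homOfLE (image_preimage_le U V.unop)).op
  exact (sheafToPresheaf (Opens.grothendieckTopology X) AddCommGrpCat.{u}).epi_of_epi_map h

theorem epi_unit_of_isFlasque (F : CohTop.Ab X) [TopCat.Sheaf.IsFlasque F] :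
    Epi ((adj (CohCx.incl U)).unit.app F) := by
  have h1 := epi_restrAdj_unit U F
  have h2 : (adj (CohCx.incl U)).unit.app F = (restrAdj U).unit.app F ≫
      inv ((CohTop.push (CohCx.incl U)).map ((pullIso U).hom.app F)) := by
    rw [← unit_pullIso, Category.assoc, IsIso.hom_inv_id, Category.comp_id]
  rw [h2]
  exact epi_comp _ _

end Groth.Agent.LocCohZ.K287.Restr
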