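import Mathlib.CategoryTheory.Functor.Category
import Mathlib.Algebra.Category.Grp.Basic
import Mathlib.Algebra.Category.Grp.EpiMono

/-!
# Functors with the same image in a third one are isomorphic

`isoOfRange a b ha hb h : P ≅ Q` for natural transformations `a : P ⟶ R`, `b : Q ⟶ R` of functors
`C ⥤ D ⥤ Ab` which are injective on elements and have the same range.
-/

set_option autoImplicit false

open CategoryTheory

namespace Groth.Agent.LocCohZ.K287.Range

universe v v' w u u'

section

/-- For injective homomorphisms with the same range. -/
noncomputable def equivOfRange {A B R : Type*} [AddCommGroup A] [AddCommGroup B] [AddCommGroup R]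
    (a : A →+ R) (b : B →+ R) (ha : Function.Injective a) (hb : Function.Injective b)
    (h : a.range = b.range) : A ≃+ B :=
  (AddMonoidHom.ofInjective ha).trans ((AddEquiv.addSubgroupCongr h).trans (AddMonoidHom.ofInjective hb).symm)

theorem b_equivOfRange {A B R : Type*} [AddCommGroup A] [AddCommGroup B] [AddCommGroup R]
    (a : A →+ R) (b : B →+ R) (ha : Function.Injective a) (hb : Function.Injective b)
    (h : a.range = b.range) (x : A) : b (equivOfRange a b ha hb h x) = a x := by
  have h1 := (AddMonoidHom.ofInjective hb).apply_symm_apply
    ((AddEquiv.addSubgroupCongr h) (AddMonoidHom.ofInjective ha x))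
  exact congrArg Subtype.val h1

end

variable {C : Type u} [Category.{v} C] {D : Type u'} [Category.{v'} D] {P Q R : C ⥤ D ⥤ AddCommGrpCat.{w}}
  (a : P ⟶ R) (b : Q ⟶ R)
  (ha : ∀ c d, Function.Injective ((a.app c).app d)) (hb : ∀ c d, Function.Injective ((b.app c).app d))
  (h : ∀ c d, ((a.app c).app d).hom.range = ((b.app c).app d).hom.range)

/-- The isomorphism of functors. -/
noncomputable def isoOfRange : P ≅ Q :=
  NatIso.ofComponents (fun c => NatIso.ofComponents
      (fun d => (equivOfRange ((a.app c).app d).hom ((b.app c).app d).hom (ha c d) (hb c d)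
        (h c d)).toAddCommGrpIso) (fun {d d'} f => by
      apply AddCommGrpCat.hom_ext
      ext x
      apply hb c d'
      have h1 := b_equivOfRange ((a.app c).app d).hom ((b.app c).app d).hom (ha c d) (hb c d) (h c d) x
      have h2 := b_equivOfRange ((a.app c).app d').hom ((b.app c).app d').hom (ha c d') (hb c d') (h c d')
        ((P.obj c).map f x)
      have h3 := ConcreteCategory.congr_hom ((a.app c).naturality f) x
      have h4 := ConcreteCategory.congr_hom ((b.app c).naturality f)
        (equivOfRange ((a.app c).app d).hom ((b.app c).app d).hom (ha c d) (hb c d) (h c d) x)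
      refine (h2.trans (h3.trans ?_)).trans h4.symm
      exact congrArg (fun z => (R.obj c).map f z) h1.symm))
    (fun {c c'} f => by
      ext d x
      apply hb c' d
      have h1 := b_equivOfRange ((a.app c).app d).hom ((b.app c).app d).hom (ha c d) (hb c d) (h c d) x
      have h2 := b_equivOfRange ((a.app c').app d).hom ((b.app c').app d).hom (ha c' d) (hb c' d) (h c' d)
        ((P.map f).app d x)
      have h3 := ConcreteCategory.congr_hom (NatTrans.congr_app (a.naturality f) d) x
      have h4 := ConcreteCategory.congr_hom (NatTrans.congr_app (b.naturality f) d)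
        (equivOfRange ((a.app c).app d).hom ((b.app c).app d).hom (ha c d) (hb c d) (h c d) x)
      refine (h2.trans (h3.trans ?_)).trans h4.symm
      exact congrArg (fun z => (R.map f).app d z) h1.symm)

theorem isoOfRange_hom_comp : (isoOfRange a b ha hb h).hom ≫ b = a := by
  ext c d x
  exact b_equivOfRange ((a.app c).app d).hom ((b.app c).app d).hom (ha c d) (hb c d) (h c d) x

end Groth.Agent.LocCohZ.K287.Range
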