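import Groth.Prelude.Def_LocCohZ
import Groth.Agent.CohtopB.ExtRD
import Groth.Agent.CohtopB.PullSect
import Groth.Agent.LocCohZ.K287.Range

/-!
# Sections with support and the sheaves `ℤ_V/ℤ_{V ⊓ U}`

* `zqF U : Opens X ⥤ Ab X`, `V ↦ ℤ_V/ℤ_{V ⊓ U}`.
* `m_unit_eq_zero_iff` : a section `s` of `F` over `V` dies in `j_* j⁻¹ F` iff `s|_{V ⊓ U} = 0`.
* `mem_range_iff` : the sections of `Γ_Z(F) ⊆ F` are the sections vanishing on `V ⊓ U`.
* `homPreIso U : homPre (zqF U) ≅ sectSuppF U ⋙ sheafToPresheaf`.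
-/

set_option autoImplicit false
universe u

open CategoryTheory CategoryTheory.Limits Opposite TopologicalSpace
open Groth.Agent.CohtopA.Sec Groth.Agent.CohtopB.TopPull Groth.Agent.CohtopB.PullSect
open Groth.Agent.CohtopB.ExtRD

namespace Groth.Agent.LocCohZ.K287.Sect

variable {X : TopCat.{u}} (U : Opens X)

/-- `V ↦ ℤ_V/ℤ_{V ⊓ U}`. -/
noncomputable def zqF : Opens X ⥤ CohTop.Ab X where
  obj V := LocCohZ.zq (inf_le_left : V ⊓ U ≤ V)
  map {V V'} i := LocCohZ.zqMap (inf_le_left : V' ⊓ U ≤ V') (inf_le_left : V ⊓ U ≤ V)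
    (inf_le_inf_right U (leOfHom i)) (leOfHom i)
  map_id V := by
    apply (cancel_epi (cokernel.π _)).1
    refine (cokernel.π_desc _ _ _).trans ?_
    refine (congrArg (fun z => z ≫ cokernel.π _) (CohFree.freeSheafMap_id _ V)).trans ?_
    exact (Category.id_comp _).trans (Category.comp_id _).symm
  map_comp {V V' V''} f g := by
    apply (cancel_epi (cokernel.π _)).1
    refine (cokernel.π_desc _ _ _).trans ?_
    refine Eq.trans ?_ (Category.assoc _ _ _)
    refine Eq.trans ?_ (congrArg (fun z => z ≫ _) (cokernel.π_desc _ _ _)).symm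
    refine Eq.trans ?_ (Category.assoc _ _ _).symm
    refine Eq.trans ?_ (congrArg (fun z => _ ≫ z) (cokernel.π_desc _ _ _)).symm
    refine Eq.trans ?_ (Category.assoc _ _ _)
    exact congrArg (fun z => z ≫ cokernel.π _) (CohFree.freeSheafMap_comp _ f g)

/-- The projection `ℤ_V ⟶ ℤ_V/ℤ_{V ⊓ U}`. -/
noncomputable def πz (V : Opens X) : CohCx.freeSheaf (Opens.grothendieckTopology X) V ⟶ (zqF U).obj V :=
  cokernel.π (CohCx.freeSheafMap (Opens.grothendieckTopology X) (homOfLE (inf_le_left : V ⊓ U ≤ V)))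

instance (V : Opens X) : Epi (πz U V) :=
  inferInstanceAs (Epi (cokernel.π
    (CohCx.freeSheafMap (Opens.grothendieckTopology X) (homOfLE (inf_le_left : V ⊓ U ≤ V)))))

theorem freeSheafMap_πz (V : Opens X) :
    CohCx.freeSheafMap (Opens.grothendieckTopology X) (homOfLE (inf_le_left : V ⊓ U ≤ V)) ≫ πz U V = 0 :=
  cokernel.condition _

theorem exists_desc {F : CohTop.Ab X} (V : Opens X)
    (φ : CohCx.freeSheaf (Opens.grothendieckTopology X) V ⟶ F)
    (h : CohCx.freeSheafMap (Opens.grothendieckTopology X) (homOfLE (inf_le_left : V ⊓ U ≤ V)) ≫ φ = 0) :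
    ∃ ψ : (zqF U).obj V ⟶ F, πz U V ≫ ψ = φ :=
  ⟨cokernel.desc _ φ h, cokernel.π_desc _ _ _⟩

@[reassoc]
theorem πz_map {V V' : Opens X} (i : V ⟶ V') :
    πz U V ≫ (zqF U).map i = CohCx.freeSheafMap (Opens.grothendieckTopology X) i ≫ πz U V' :=
  cokernel.π_desc _ _ _

/-- `Hom(ℤ_V/ℤ_{V ⊓ U}, F) → F(V)`. -/
noncomputable def ev : homPre (zqF U) ⟶ sheafToPresheaf (Opens.grothendieckTopology X) AddCommGrpCat.{u} where
  app F :=
    { app := fun V => AddCommGrpCat.ofHom (AddMonoidHom.mk' (fun φ : (zqF U).obj V.unop ⟶ F =>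
        CohFree.evalGen (Opens.grothendieckTopology X) V.unop F (πz U V.unop ≫ φ)) (fun φ ψ => by
          rw [Preadditive.comp_add, map_add]))
      naturality := fun V V' i => by
        ext φ
        change CohFree.evalGen (Opens.grothendieckTopology X) V'.unop F
          (πz U V'.unop ≫ (zqF U).map i.unop ≫ φ) = F.obj.map i
            (CohFree.evalGen (Opens.grothendieckTopology X) V.unop F (πz U V.unop ≫ φ))
        rw [πz_map_assoc]
        exact CohFree.evalGen_freeSheafMap_comp _ i.unop F _ }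
  naturality F G g := by
    ext V φ
    rfl

/-- `Γ_Z(F) → F` -/
noncomputable def κ : LocCohZ.sectSuppF U ⟶ 𝟭 (CohTop.Ab X) where
  app F := kernel.ι ((adj (CohCx.incl U)).unit.app F)
  naturality _ _ _ := kernel.lift_ι _ _ _

/-- `Γ_Z(F)(V) → F(V)`. -/
noncomputable def κp : LocCohZ.sectSuppF U ⋙ sheafToPresheaf (Opens.grothendieckTopology X) AddCommGrpCat.{u} ⟶
    sheafToPresheaf (Opens.grothendieckTopology X) AddCommGrpCat.{u} :=
  Functor.whiskerRight (κ U) (sheafToPresheaf (Opens.grothendieckTopology X) AddCommGrpCat.{u})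

variable (F : CohTop.Ab X) (V : Opens X)

theorem m_unit_eq_zero_iff (s : Γs F V) :
    m ((adj (CohCx.incl U)).unit.app F) V s = 0 ↔ r F (inf_le_left : V ⊓ U ≤ V) s = 0 := by
  have hm : m ((adj (CohCx.incl U)).unit.app F) V s = ρ (CohCx.incl U) F V s := rfl
  rw [hm]
  constructor
  · intro h
    obtain ⟨W, h1, h2, hW, e⟩ := exists_eq_of_ρ (f := CohCx.incl U) F s (0 : Γs F V)
      (V := (Opens.map (CohCx.incl U)).obj V) le_rfl le_rfl (by rw [h, map_zero]; rfl)
    have hle : V ⊓ U ≤ W := fun x hx => hW (show (⟨x, hx.2⟩ : U) ∈ (Opens.map (CohCx.incl U)).obj V from hx.1)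
    have h3 := congrArg (r F hle) e
    rw [r_r, map_zero, map_zero] at h3
    exact h3
  · intro h
    have h1 := ρ_r (f := CohCx.incl U) F (inf_le_left : V ⊓ U ≤ V) s
    rw [h, map_zero] at h1
    have hle : (Opens.map (CohCx.incl U)).obj V ≤ (Opens.map (CohCx.incl U)).obj (V ⊓ U) :=
      fun x hx => ⟨hx, x.2⟩
    have h2 := congrArg (r _ hle) h1
    rw [map_zero, r_r, r_self] at h2
    exact h2.symm

theorem evalGen_comp {F G : CohTop.Ab X} (V : Opens X)
    (φ : CohCx.freeSheaf (Opens.grothendieckTopology X) V ⟶ F) (g : F ⟶ G) :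
    CohFree.evalGen (Opens.grothendieckTopology X) V G (φ ≫ g) =
      m g V (CohFree.evalGen (Opens.grothendieckTopology X) V F φ) := rfl

theorem evalGen_injective (V : Opens X) :
    Function.Injective (CohFree.evalGen (Opens.grothendieckTopology X) V F) :=
  (CohFree.homEquivSect (Opens.grothendieckTopology X) V F).injective

/-- The sections of a kernel. -/
theorem exists_m_kernel_iff {F G : CohTop.Ab X} (g : F ⟶ G) (V : Opens X) (s : Γs F V) :
    (∃ t, m (kernel.ι g) V t = s) ↔ m g V s = 0 := by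
  constructor
  · rintro ⟨t, rfl⟩
    rw [← m_comp, kernel.condition]
    rfl
  · intro h
    have h1 : CohFree.ofSect (Opens.grothendieckTopology X) V F s ≫ g = 0 := by
      apply evalGen_injective
      rw [evalGen_comp, CohFree.evalGen_ofSect, h, map_zero]
    refine ⟨CohFree.evalGen (Opens.grothendieckTopology X) V _ (kernel.lift g _ h1), ?_⟩
    rw [← evalGen_comp, kernel.lift_ι, CohFree.evalGen_ofSect]

theorem mem_range_κ_iff (s : Γs F V) :
    (∃ t, m ((κ U).app F) V t = s) ↔ r F (inf_le_left : V ⊓ U ≤ V) s = 0 := by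
  rw [← m_unit_eq_zero_iff]
  exact exists_m_kernel_iff _ V s

theorem mem_range_ev_iff (s : Γs F V) :
    (∃ t, ((ev U).app F).app (op V) t = s) ↔ r F (inf_le_left : V ⊓ U ≤ V) s = 0 := by
  constructor
  · rintro ⟨t, rfl⟩
    have h := CohFree.evalGen_freeSheafMap_comp (Opens.grothendieckTopology X)
      (homOfLE (inf_le_left : V ⊓ U ≤ V)) F (πz U V ≫ t)
    refine Eq.trans h.symm ?_
    rw [← Category.assoc, freeSheafMap_πz, zero_comp, map_zero]
  · intro h
    have h1 : CohCx.freeSheafMap (Opens.grothendieckTopology X) (homOfLE (inf_le_left : V ⊓ U ≤ V)) ≫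
        CohFree.ofSect (Opens.grothendieckTopology X) V F s = 0 := by
      apply evalGen_injective
      rw [CohFree.evalGen_freeSheafMap_comp, CohFree.evalGen_ofSect, map_zero]
      exact h
    obtain ⟨ψ, hψ⟩ := exists_desc U V _ h1
    refine ⟨ψ, ?_⟩
    change CohFree.evalGen (Opens.grothendieckTopology X) V F (πz U V ≫ ψ) = s
    rw [hψ, CohFree.evalGen_ofSect]

theorem ev_injective (V : (Opens X)ᵒᵖ) : Function.Injective (((ev U).app F).app V) := by
  intro a b h
  apply (cancel_epi (πz U V.unop)).1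
  apply evalGen_injective
  exact h

theorem κ_injective (V : Opens X) : Function.Injective (m ((κ U).app F) V) := by
  have : Mono ((κ U).app F) := inferInstanceAs (Mono (kernel.ι ((adj (CohCx.incl U)).unit.app F)))
  exact m_injective _ _

/-- `Hom(ℤ_V/ℤ_{V ⊓ U}, F) = Γ_Z(F)(V)`, naturally in `F` and `V`. -/
noncomputable def homPreIso : homPre (zqF U) ≅
    LocCohZ.sectSuppF U ⋙ sheafToPresheaf (Opens.grothendieckTopology X) AddCommGrpCat.{u} :=
  Range.isoOfRange (ev U) (κp U) (fun F V => ev_injective U F V) (fun F V => κ_injective U F V.unop)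
    (fun F V => by
      ext s
      refine Iff.trans (mem_range_ev_iff U F V.unop s) (mem_range_κ_iff U F V.unop s).symm)

end Groth.Agent.LocCohZ.K287.Sect
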