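import Groth.Prelude.Def_LocCohZ
import Groth.Agent.LocCohZ.K287.FunNat
import Groth.Agent.LocCohZ.K287.Restr
import Groth.Agent.LocCohZ.K287.Sect
import Groth.Agent.Sga4h.RDExact

/-!
# Local cohomology sheaves and direct images from the open complement

* `seqSE` : `0 ⟶ Γ_Z(I) ⟶ I ⟶ f_* f⁻¹ I ⟶ 0` is exact for injective `I`.
* `HZshOne U : HZsh U 1 ≅ cokernel (unit)`.
* `HZshSucc U n : HZsh U (n + 2) ≅ pull (incl U) ⋙ Rpush (incl U) (n + 1)`.
-/

set_option autoImplicit false
universe u

open CategoryTheory CategoryTheory.Limits Opposite TopologicalSpace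
open Groth.Agent.CohtopB.TopPull

namespace Groth.Agent.LocCohZ.K287.PushSeq

variable {X : TopCat.{u}} (U : Opens X)

/-- `F ↦ f_* f⁻¹ F`. -/
noncomputable abbrev pp : CohTop.Ab X ⥤ CohTop.Ab X :=
  CohTop.pull (CohCx.incl U) ⋙ CohTop.push (CohCx.incl U)

theorem additive_push {X Y : TopCat.{u}} (f : X ⟶ Y) : (CohTop.push f).Additive := inferInstance

theorem additive_pull' {X Y : TopCat.{u}} (f : X ⟶ Y) : (CohTop.pull f).Additive := inferInstance

theorem preservesFiniteLimits_push {X Y : TopCat.{u}} (f : X ⟶ Y) :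
    PreservesFiniteLimits (CohTop.push f) := inferInstance

theorem preservesHomology_pull {X Y : TopCat.{u}} (f : X ⟶ Y) :
    (CohTop.pull f).PreservesHomology := inferInstance

instance : (CohTop.push (CohCx.incl U)).Additive := additive_push _

instance : (CohTop.pull (CohCx.incl U)).Additive := additive_pull' _

instance : (CohTop.pull (CohCx.incl U)).PreservesHomology := preservesHomology_pull _

instance : (pp U).Additive := inferInstance

instance : PreservesFiniteLimits (pp U) :=
  have := preservesFiniteLimits_pull (CohCx.incl U)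
  have := preservesFiniteLimits_push (CohCx.incl U)
  comp_preservesFiniteLimits _ _

/-- The unit. -/
noncomputable abbrev un : 𝟭 (CohTop.Ab X) ⟶ pp U := (adj (CohCx.incl U)).unit

theorem κ_un (M : CohTop.Ab X) : (Sect.κ U).app M ≫ (un U).app M = 0 := kernel.condition _

theorem seqSE (I : CohTop.Ab X) (hI : Injective I) :
    (ShortComplex.mk ((Sect.κ U).app I) ((un U).app I) (κ_un U I)).ShortExact := by
  have h1 : TopCat.Sheaf.IsFlasque I := CohtopA.Flasque.isFlasque_of_injective I
  have h2 : Mono ((Sect.κ U).app I) := inferInstanceAs (Mono (kernel.ι ((adj (CohCx.incl U)).unit.app I)))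
  have h3 : Epi ((un U).app I) := Restr.epi_unit_of_isFlasque U I
  exact { exact := ShortComplex.exact_of_f_is_kernel _ (kernelIsKernel ((adj (CohCx.incl U)).unit.app I)) }

/-- `ℋ^1_Z ≅ coker (F ⟶ f_* f⁻¹ F)`. -/
noncomputable def HZshOne : LocCohZ.HZsh U 1 ≅ cokernel (un U) :=
  FunNat.oneIso (Sect.κ U) (un U) (κ_un U) (seqSE U)

/-- `ℋ^{n+2}_Z ≅ R^{n+1} f_* (f⁻¹ F)`. -/
noncomputable def HZshSucc (n : ℕ) :
    LocCohZ.HZsh U (n + 2) ≅ CohTop.pull (CohCx.incl U) ⋙ CohTop.Rpush (CohCx.incl U) (n + 1) :=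
  (FunNat.succIso (Sect.κ U) (un U) (κ_un U) (seqSE U) n).symm ≪≫
    Sga4h.RDExact.preIso (CohTop.pull (CohCx.incl U)) (CohTop.push (CohCx.incl U))
      (fun I hI => @Restr.injective_pull _ U I hI) (n + 1)

end Groth.Agent.LocCohZ.K287.PushSeq
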