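import Groth.Agent.CohtopB.ExtRD
import Groth.Agent.CohtopA.RDComp

/-!
# `Ext(Y, -)` as the derived functors of a functor isomorphic to `Hom(Y, -)`

`extEvIso` : for `Z : C ⥤ A`, `e : Z.obj V ≅ Y` and `G ≅ (F ↦ Hom(Z V, F))`, `R^n G ≅ Ext^n(Y, -)`.
-/

set_option autoImplicit false
universe v u' w

open CategoryTheory CategoryTheory.Limits Opposite Abelian
open Groth.Agent.CohtopB.ExtRD Groth.Agent.CohtopA.RDComp

namespace Groth.Agent.LocCohZ.K287.ExtEv

variable {C : Type v} [SmallCategory C] {A : Type u'} [Category.{v} A] [Abelian A]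
  [HasExt.{v} A] [EnoughInjectives A]

/-- Evaluation. -/
noncomputable abbrev evC (V : C) : (Cᵒᵖ ⥤ AddCommGrpCat.{v}) ⥤ AddCommGrpCat.{v} :=
  (evaluation Cᵒᵖ AddCommGrpCat.{v}).obj (op V)

instance (V : C) : (evC V).PreservesHomology := inferInstance

/-- `Ext^q(Z V, -)` -/
noncomputable def extPreEv (Z : C ⥤ A) (q : ℕ) (V : C) :
    extPre Z q ⋙ evC V ≅ (extFunctor.{v} q).obj (op (Z.obj V)) :=
  NatIso.ofComponents (fun _ => Iso.refl _)
    (fun _ => (Category.comp_id _).trans (Category.id_comp _).symm)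

/-- `R^n G ≅ Ext^n(Y, -)` for `G ≅ (F ↦ Hom(Z V, F))` and `Z V ≅ Y`. -/
noncomputable def extEvIso (Z : C ⥤ A) (V : C) {Y : A} (e : Z.obj V ≅ Y) (G : A ⥤ AddCommGrpCat.{v})
    [G.Additive] (i : G ≅ homPre Z ⋙ evC V) (q : ℕ) :
    G.rightDerived q ≅ (extFunctor.{v} q).obj (op Y) :=
  rightDerivedCongr i q ≪≫
    rightDerivedCompIso (homPre Z) (evC V) q ≪≫
    Functor.isoWhiskerRight (extPreIso Z q) (evC V) ≪≫
    extPreEv Z q V ≪≫ (extFunctor.{v} q).mapIso e.symm.op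

end Groth.Agent.LocCohZ.K287.ExtEv
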