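import Groth.Agent.LocCohZ.K287.Sheafify
import Groth.Agent.LocCohZ.K287.ExtEv

/-!
# Derived functors of global sections with support

`RHZIso U q : RHZ U q ≅ Ext^q(ℤ_X/ℤ_U, -)`, `RHZIsoHZFunctor U q : RHZ U q ≅ ToposFin.HZFunctor (openSh U) q`.
-/

set_option autoImplicit false
universe u

open CategoryTheory CategoryTheory.Limits Opposite TopologicalSpace
open Groth.Agent.CohtopB.ExtRD Groth.Agent.CohtopA.RDComp

namespace Groth.Agent.LocCohZ.K287.Glob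

open Sect

variable {X : TopCat.{u}} (U : Opens X)

/-- `Γ_Z(X, F) = Hom(ℤ_X/ℤ_{X ⊓ U}, F)`. -/
noncomputable def gammaIso : LocCohZ.gammaZF U ≅ homPre (zqF U) ⋙ ExtEv.evC (⊤ : Opens X) :=
  (Functor.associator _ _ _).symm ≪≫ Functor.isoWhiskerRight (homPreIso U).symm (ExtEv.evC ⊤)

theorem exists_iso_of_eq {W W' V : Opens X} (h : W ≤ V) (h' : W' ≤ V) (e : W = W') :
    Nonempty (LocCohZ.zq h ≅ LocCohZ.zq h') := by
  subst e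
  exact ⟨Iso.refl _⟩

/-- `ℤ_X/ℤ_{X ⊓ U} ≅ ℤ_X/ℤ_U`. -/
noncomputable def zqTopIso : (zqF U).obj ⊤ ≅ LocCohZ.zq (le_top : U ≤ ⊤) :=
  (exists_iso_of_eq (inf_le_left : (⊤ : Opens X) ⊓ U ≤ ⊤) (le_top : U ≤ ⊤) (top_inf_eq U)).some

/-- `H^q_Z(X, F) = Ext^q(ℤ_X/ℤ_U, F)`, naturally in `F`. -/
noncomputable def RHZIso (q : ℕ) :
    LocCohZ.RHZ U q ≅ (Abelian.extFunctor.{u} q).obj (op (LocCohZ.zq (le_top : U ≤ ⊤))) :=
  ExtEv.extEvIso (zqF U) ⊤ (zqTopIso U) (LocCohZ.gammaZF U) (gammaIso U) q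

/-- `H^q_Z(X, F)` in the two versions. -/
noncomputable def RHZIsoHZFunctor (q : ℕ) :
    LocCohZ.RHZ U q ≅ ToposFin.HZFunctor (LocCohZ.openSh U) q :=
  ExtEv.extEvIso (zqF U) ⊤ (zqTopIso U ≪≫ LocCohZ.zqIsoQuotZ U) (LocCohZ.gammaZF U) (gammaIso U) q

end Groth.Agent.LocCohZ.K287.Glob
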