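import Groth.Agent.LocCohZ.K287.Sect
import Groth.Agent.CohtopA.RDComp

/-!
# Local cohomology sheaves are the sheafification of cohomology with supports

`HZshIso U q : HZsh U q ≅ extPre (zqF U) q ⋙ presheafToSheaf`: the sheaf `ℋ^q_Z(F)` is the sheafification
of `V ↦ Ext^q(ℤ_V/ℤ_{V ⊓ U}, F) = HZ F q (V ⊓ U ≤ V)`, naturally in `F`.
-/

set_option autoImplicit false
universe u

open CategoryTheory CategoryTheory.Limits Opposite TopologicalSpace
open Groth.Agent.CohtopB.ExtRD Groth.Agent.CohtopA.RDComp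

namespace Groth.Agent.LocCohZ.K287.Sheafify

open Sect

variable {X : TopCat.{u}} (U : Opens X)

/-- Sheafification on `X`. -/
noncomputable abbrev shf (X : TopCat.{u}) : ((Opens X)ᵒᵖ ⥤ AddCommGrpCat.{u}) ⥤ CohTop.Ab X :=
  presheafToSheaf (Opens.grothendieckTopology X) AddCommGrpCat.{u}

/-- `Γ_Z` is the sheafification of `V ↦ Hom(ℤ_V/ℤ_{V ⊓ U}, F)`. -/
noncomputable def sectIso : LocCohZ.sectSuppF U ≅ homPre (zqF U) ⋙ shf X :=
  (Functor.rightUnitor _).symm ≪≫
    Functor.isoWhiskerLeft (LocCohZ.sectSuppF U)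
      (asIso (sheafificationAdjunction (Opens.grothendieckTopology X) AddCommGrpCat.{u}).counit).symm ≪≫
    (Functor.associator _ _ _).symm ≪≫
    Functor.isoWhiskerRight (homPreIso U).symm (shf X)

instance : (shf X).PreservesHomology := inferInstance

/-- `ℋ^q_Z(F)` is the sheafification of `V ↦ H^q_{V∖U}(V, F)`, naturally in `F`. -/
noncomputable def HZshIso (q : ℕ) : LocCohZ.HZsh U q ≅ extPre (zqF U) q ⋙ shf X :=
  rightDerivedCongr (sectIso U) q ≪≫
    rightDerivedCompIso (homPre (zqF U)) (shf X) q ≪≫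
    Functor.isoWhiskerRight (extPreIso (zqF U) q) (shf X)

/-- If all the groups `H^q_{V∖U}(V, F)` vanish, so does `ℋ^q_Z(F)`. -/
theorem isZero_HZsh (F : CohTop.Ab X) (q : ℕ)
    (h : ∀ V : Opens X, Subsingleton (LocCohZ.HZ F q (inf_le_left : V ⊓ U ≤ V))) :
    IsZero ((LocCohZ.HZsh U q).obj F) := by
  refine IsZero.of_iso ?_ ((HZshIso U q).app F)
  refine (shf X).map_isZero ?_
  rw [Functor.isZero_iff]
  intro V
  exact @AddCommGrpCat.isZero_of_subsingleton _ (h V.unop)

end Groth.Agent.LocCohZ.K287.Sheafify
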